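import Groth.Prelude.Def_AdFn
import Groth.Agent.FF30.Rational

/-! Density of a function field in its completions; strong approximation for adeles. -/

set_option autoImplicit false
universe u
open AdFn

namespace Groth.Agent.Ad97

variable {k K : Type u} [Field k] [Field K] [Algebra k K]

theorem exists_approx (v : FunFld.Place k K) (a : Kv v) : ∃ x : K, a - toKv v x ∈ Ov v := by
  have ho : IsOpen {b : Kv v | a - b ∈ Ov v} := (isOpen_Ov v).preimage (continuous_const.sub continuous_id)
  obtain ⟨b, hb, y, rfl⟩ := (UniformSpace.Completion.denseRange_coe (α := WithVal v.1)).exists_mem_open ho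
    ⟨a, by simp⟩ |> (fun ⟨y, hy⟩ => (⟨_, hy, y, rfl⟩ : ∃ b, b ∈ {b : Kv v | a - b ∈ Ov v} ∧
      ∃ y : WithVal v.1, (y : Kv v) = b))
  exact ⟨WithVal.ofVal y, hb⟩

theorem algebraMap_mem_Ov (v : FunFld.Place k K) (c : k) : algebraMap k (Kv v) c ∈ Ov v := by
  rw [IsScalarTower.algebraMap_apply k K (Kv v)]
  exact (toKv_mem_Ov v _).2 (v.2.1 c)

theorem mem_span_Ov (v : FunFld.Place k K) {x : Kv v} :
    x ∈ Submodule.span k (Ov v : Set (Kv v)) ↔ x ∈ Ov v := by
  refine ⟨fun h => ?_, fun h => Submodule.subset_span h⟩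
  induction h using Submodule.span_induction with
  | mem x hx => exact hx
  | zero => exact zero_mem _
  | add x y _ _ hx hy => exact add_mem hx hy
  | smul c x _ hx =>
    rw [Algebra.smul_def]
    exact mul_mem (algebraMap_mem_Ov v c) hx

theorem exists_sub_mem_Ov_outside (hK : FunFld.IsFunctionField k K) (S : Set (FunFld.Place k K))
    (hS : S.Nonempty) [HasFinitePoles k K] (a : AdeleRing k K) :
    ∃ f : K, ∀ v : FunFld.Place k K, v ∉ S → AdeleRing.proj v (a - AdeleRing.diag f) ∈ Ov v := by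
  classical
  obtain ⟨P, hP⟩ := hS
  choose x hx using fun v => exists_approx v (a.1 v)
  have hfin := Filter.eventually_cofinite.1 a.2
  obtain ⟨y, hy, hy'⟩ := Groth.Agent.FF30.strong_approximation' hK P (hfin.toFinset.erase P)
    (by simp) x 0
  refine ⟨y, fun v hv => ?_⟩
  rw [map_sub, AdeleRing.proj_diag, AdeleRing.proj_apply]
  have hvP : v ≠ P := fun h => hv (h ▸ hP)
  by_cases hvT : v ∈ hfin.toFinset.erase P
  · rw [show a.1 v - toKv v y = (a.1 v - toKv v (x v)) - toKv v (y - x v) by rw [map_sub]; abel]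
    refine sub_mem (hx v) ((toKv_mem_Ov v _).2 ?_)
    simpa using (hy v hvT).le
  · refine sub_mem ?_ ((toKv_mem_Ov v _).2 (hy' v hvP hvT))
    simpa [hvP] using hvT

end Groth.Agent.Ad97
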